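import Groth.Agent.AcycCompLib.Criterion
import Groth.Agent.BCVertLib.Local
import Groth.Agent.BCVertLib.EtaleBCQ
import Groth.Agent.BCVertLib.Horiz
import Groth.Agent.S6662
import Groth.Agent.S8616
import Groth.Agent.S8560
import Groth.Agent.S3054
import Groth.Agent.SmoothBCLib.UnivHomeoBC

/-!
# The unit condition along finite morphisms, open immersions and open coverings
-/

set_option autoImplicit false
set_option linter.style.haveILetI false
set_option linter.unusedSectionVars false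
set_option backward.isDefEq.respectTransparency false
set_option backward.isDefEq.respectTransparency.types false
set_option maxHeartbeats 1000000
set_option synthInstance.maxHeartbeats 400000

universe u

open CategoryTheory CategoryTheory.Limits AlgebraicGeometry Opposite
open Groth.Agent.BCVertLib Groth.Agent.GenBCLib

attribute [local instance] Groth.Agent.S0101.result

noncomputable section

namespace Groth.Agent.CmpLLib

/-- The unit is an isomorphism and the higher direct images vanish up to degree `n`. -/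
def UnitVanish {X Y : Scheme.{u}} (g : X ⟶ Y) (n : ℕ) (F : EtCoh.Ab Y) : Prop :=
  IsIso ((EtCoh.pullPushAdj g).unit.app F) ∧
    ∀ q : ℕ, 1 ≤ q → q ≤ n → IsZero ((EtCoh.Rpush g q).obj ((EtCoh.pull g).obj F))

variable {X Y : Scheme.{u}} {g : X ⟶ Y} {n : ℕ}

theorem UnitVanish.of_iso {F F' : EtCoh.Ab Y} (h : UnitVanish g n F) (e : F ≅ F') : UnitVanish g n F' := by
  refine ⟨(NatTrans.isIso_app_iff_of_iso (EtCoh.pullPushAdj g).unit e).1 h.1, fun q h1 h2 => ?_⟩
  exact (h.2 q h1 h2).of_iso ((EtCoh.Rpush g q).mapIso ((EtCoh.pull g).mapIso e)).symm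

theorem UnitVanish.surjective_Hpull {F : EtCoh.Ab Y} (h : UnitVanish g n F) (q : ℕ) (hq : q ≤ n) :
    Function.Surjective (EtCore.Hpull g F q) :=
  ((AcycCompLib.bijective_Hpull_of_unit g q F n h.1 h.2).1 hq).2

theorem isZero_of_push {A B : Scheme.{u}} (p : A ⟶ B) [IsIntegralHom p] {F : EtCoh.Ab A}
    (h : IsZero ((EtCoh.push p).obj F)) : IsZero F := by
  have h0 : IsIso ((EtCoh.push p).map (0 : F ⟶ F)) :=
    ⟨0, h.eq_of_src _ _, h.eq_of_src _ _⟩
  haveI := S6662.isIso_of_isIso_push_integral p _ h0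
  exact (IsZero.iff_id_eq_zero F).2 (by rw [← IsIso.hom_inv_id (0 : F ⟶ F), zero_comp])

/-- Along a finite morphism to the base. -/
theorem unitVanish_finite {XU U XZ Z : Scheme.{u}} [CompactSpace U] [QuasiSeparatedSpace U]
    [CompactSpace XU] [QuasiSeparatedSpace XU]
    (gU : XU ⟶ U) (p : Z ⟶ U) [IsFinite p] (gZ : XZ ⟶ Z) (p' : XZ ⟶ XU) (h : IsPullback gZ p' p gU)
    (F : EtCoh.Ab Z) (hU : UnitVanish gU n ((EtCoh.push p).obj F)) : UnitVanish gZ n F := by
  haveI : IsFinite p' := MorphismProperty.of_isPullback h ‹IsFinite p›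
  haveI : CompactSpace XZ := QuasiCompact.compactSpace_of_compactSpace p'
  haveI : QuasiSeparatedSpace XZ := quasiSeparatedSpace_of_quasiSeparated p'
  haveI := EtPtsLib.isIso_baseChange0 p gU p' gZ h F
  obtain ⟨hu, hR⟩ := hU
  haveI := hu
  let bc := EtCoh.baseChange0 p gU p' gZ h.w F
  have e : (EtCoh.push p).map ((EtCoh.pullPushAdj gZ).unit.app F) ≫
      (BCVertLib.sqNat p gU p' gZ h.w).hom.app ((EtCoh.pull gZ).obj F) =
      (EtCoh.pullPushAdj gU).unit.app ((EtCoh.push p).obj F) ≫ (EtCoh.push gU).map bc :=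
    (((EtCoh.pullPushAdj gU).homEquiv _ _).apply_symm_apply _).symm.trans (Adjunction.homEquiv_unit _ _ _ _)
  haveI : IsIso ((EtCoh.push p).map ((EtCoh.pullPushAdj gZ).unit.app F) ≫
      (BCVertLib.sqNat p gU p' gZ h.w).hom.app ((EtCoh.pull gZ).obj F)) := by
    rw [e]; infer_instance
  refine ⟨S6662.isIso_of_isIso_push_integral p _ (IsIso.of_isIso_comp_right _
    ((BCVertLib.sqNat p gU p' gZ h.w).hom.app ((EtCoh.pull gZ).obj F))), fun q h1 h2 => isZero_of_push p ?_⟩
  let G := (EtCoh.pull gZ).obj F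
  have h0 : IsZero ((EtCoh.Rpush gU q).obj ((EtCoh.push p').obj G)) :=
    (hR q h1 h2).of_iso ((EtCoh.Rpush gU q).mapIso (asIso bc)).symm
  haveI := S8616.result p' gU G (fun r hr => S3054.result p' G r hr) q
  have h3 : IsZero ((EtCoh.Rpush (p' ≫ gU) q).obj G) := h0.of_iso (asIso (EtBC.lerayEdgeIn p' gU q G)).symm
  rw [show p' ≫ gU = gZ ≫ p from h.w.symm] at h3
  haveI := S6662.preservesFiniteColimits_push_integral p
  haveI : PreservesFiniteLimits (EtCoh.push p) :=
    (EtCoh.pullPushAdj p).rightAdjoint_preservesLimits.{0, 0}.preservesFiniteLimits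
  haveI : (EtCoh.push p).Additive := (EtCoh.pullPushAdj p).right_adjoint_additive
  haveI : (EtCoh.push gZ).Additive := (EtCoh.pullPushAdj gZ).right_adjoint_additive
  haveI : (EtCoh.push (gZ ≫ p)).Additive := (EtCoh.pullPushAdj (gZ ≫ p)).right_adjoint_additive
  haveI : (𝟭 (EtCoh.Ab XZ)).PreservesInjectiveObjects := ⟨fun h => h⟩
  let ν : 𝟭 (EtCoh.Ab XZ) ⋙ EtCoh.push (gZ ≫ p) ≅ EtCoh.push gZ ⋙ EtCoh.push p :=
    Functor.leftUnitor _ ≪≫ (EtCoh.pushComp p gZ).symm
  haveI := isIso_bcG_id (EtCoh.push (gZ ≫ p)) (EtCoh.push gZ) (EtCoh.push p) ν G q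
  exact h3.of_iso (asIso (bcG (𝟭 (EtCoh.Ab XZ)) (EtCoh.push (gZ ≫ p)) (EtCoh.push gZ) (EtCoh.push p) ν (𝟙 G) q)).symm

/-- Along an étale morphism to the base. -/
theorem unitVanish_etale {XW W : Scheme.{u}} (j : W ⟶ Y) [Etale j] (gW : XW ⟶ W) (j' : XW ⟶ X)
    (h : IsPullback j' gW g j) {G : EtCoh.Ab Y} (hG : UnitVanish g n G) :
    UnitVanish gW n ((EtCoh.pull j).obj G) := by
  obtain ⟨hu, hR⟩ := hG
  haveI := hu
  obtain ⟨σ, hσ⟩ := AcycCompLib.exists_pull_unit_baseChange0 g j gW j' h.w G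
  haveI := isIso_baseChange0_etale g j gW j' h ((EtCoh.pull g).obj G)
  haveI : IsIso ((EtCoh.pullPushAdj gW).unit.app ((EtCoh.pull j).obj G) ≫ (EtCoh.push gW).map σ.hom) := by
    rw [← hσ]; infer_instance
  refine ⟨IsIso.of_isIso_comp_right _ ((EtCoh.push gW).map σ.hom), fun q h1 h2 => ?_⟩
  haveI := isIso_bcQ_etale g j gW j' h q ((EtCoh.pull g).obj G)
  haveI : (EtCoh.pull j).Additive := (EtCoh.pullPushAdj j).left_adjoint_additive
  have h3 : IsZero ((EtCoh.Rpush gW q).obj ((EtCoh.pull j').obj ((EtCoh.pull g).obj G))) :=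
    ((EtCoh.pull j).map_isZero (hR q h1 h2)).of_iso (asIso (EtBC.bcQ g j gW j' h.w q ((EtCoh.pull g).obj G))).symm
  exact h3.of_iso ((EtCoh.Rpush gW q).mapIso σ)

/-- Sheaves on an open subscheme are restrictions. -/
theorem nonempty_pull_push {W : Scheme.{u}} (j : W ⟶ Y) [IsOpenImmersion j] (F : EtCoh.Ab W) :
    Nonempty ((EtCoh.pull j).obj ((EtCoh.push j).obj F) ≅ F) := by
  haveI := isIso_baseChange0_etale j j (𝟙 W) (𝟙 W) (IsPullback.of_isLimit (PullbackCone.isLimitMkIdId j)) F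
  haveI := SmoothBCLib.isIso_unit_univHomeo (𝟙 W) F
  exact ⟨asIso (EtCoh.baseChange0 j j (𝟙 W) (𝟙 W) _ F) ≪≫ (asIso ((EtCoh.pullPushAdj (𝟙 W)).unit.app F)).symm⟩

/-- Direct images of `L`-torsion sheaves in degree zero. -/
theorem isLTorsion_push {W : Scheme.{u}} (j : W ⟶ Y) [QuasiCompact j] [QuasiSeparated j] {L : Set ℕ}
    {F : EtCoh.Ab W} (hF : EtAcyc.IsLTorsion L F) : EtAcyc.IsLTorsion L ((EtCoh.push j).obj F) := by
  haveI : PreservesFiniteLimits (EtCoh.push j) :=
    (EtCoh.pullPushAdj j).rightAdjoint_preservesLimits.{0, 0}.preservesFiniteLimits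
  exact RpushTorsLib.isLTorsion_of_iso (asIso ((EtCoh.push j).toRightDerivedZero.app F)).symm
    (S8560.result j L F hF 0)

/-- The condition is local on the base. -/
theorem unitVanish_of_openCover {ι : Type u} (U : ι → Y.Opens) (hU : ∀ y : Y, ∃ i, y ∈ U i) {G : EtCoh.Ab Y}
    (h : ∀ i, UnitVanish (pullback.fst (U i).ι g) n ((EtCoh.pull (U i).ι).obj G)) : UnitVanish g n G := by
  let V : ι → Y.Etale := fun i => Scheme.Etale.mk (U i).ι
  have hV : EtCoh.Covers V := fun y => by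
    obtain ⟨i, hi⟩ := hU y
    exact ⟨i, ⟨y, hi⟩, rfl⟩
  refine ⟨isIso_of_covers V hV _ fun i => ?_, fun q h1 h2 => ?_⟩
  · show IsIso ((EtCoh.pull (U i).ι).map ((EtCoh.pullPushAdj g).unit.app G))
    have hs : IsPullback (pullback.snd (U i).ι g) (pullback.fst (U i).ι g) g (U i).ι :=
      (IsPullback.of_hasPullback (U i).ι g).flip
    obtain ⟨σ, hσ⟩ := AcycCompLib.exists_pull_unit_baseChange0 g (U i).ι _ _ hs.w G
    haveI := (h i).1
    haveI := isIso_baseChange0_etale g (U i).ι _ _ hs ((EtCoh.pull g).obj G)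
    haveI : IsIso ((EtCoh.pull (U i).ι).map ((EtCoh.pullPushAdj g).unit.app G) ≫
        EtCoh.baseChange0 g (U i).ι (pullback.fst (U i).ι g) (pullback.snd (U i).ι g) hs.w ((EtCoh.pull g).obj G)) := by
      rw [hσ]; infer_instance
    exact IsIso.of_isIso_comp_right _
      (EtCoh.baseChange0 g (U i).ι (pullback.fst (U i).ι g) (pullback.snd (U i).ι g) hs.w ((EtCoh.pull g).obj G))
  · let A := (EtCoh.Rpush g q).obj ((EtCoh.pull g).obj G)
    haveI : IsIso (0 : A ⟶ A) := isIso_of_covers V hV _ fun i => by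
      show IsIso ((EtCoh.pull (U i).ι).map (0 : A ⟶ A))
      have hs : IsPullback (pullback.snd (U i).ι g) (pullback.fst (U i).ι g) g (U i).ι :=
        (IsPullback.of_hasPullback (U i).ι g).flip
      haveI := isIso_bcQ_etale g (U i).ι _ _ hs q ((EtCoh.pull g).obj G)
      obtain ⟨σ, -⟩ := AcycCompLib.exists_pull_unit_baseChange0 g (U i).ι _ _ hs.w G
      have hz : IsZero ((EtCoh.pull (U i).ι).obj A) :=
        (((h i).2 q h1 h2).of_iso ((EtCoh.Rpush (pullback.fst (U i).ι g) q).mapIso σ).symm).of_iso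
          (asIso (EtBC.bcQ g (U i).ι _ _ hs.w q ((EtCoh.pull g).obj G)))
      exact ⟨0, hz.eq_of_src _ _, hz.eq_of_src _ _⟩
    exact (IsZero.iff_id_eq_zero A).2 (by rw [← IsIso.hom_inv_id (0 : A ⟶ A), zero_comp])

end Groth.Agent.CmpLLib
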