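import Groth.Agent.CmpLLib.Main
import Groth.Agent.CmpLLib.Transfer
import Groth.Agent.S3510
import Groth.Agent.S0385
import Groth.Agent.SmoothBCLib.AffineTest
import Groth.Agent.SmoothBCLib.AcycFibre
import Groth.Agent.EtPtsLib.UnitMono
import Groth.Agent.ASp.EtLocal

/-!
# Acyclicity detected by constant coefficients on quasi-finite bases
-/

set_option autoImplicit false
set_option linter.style.haveILetI false
set_option linter.unusedSectionVars false
set_option backward.isDefEq.respectTransparency false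
set_option backward.isDefEq.respectTransparency.types false
set_option maxHeartbeats 1000000
set_option synthInstance.maxHeartbeats 400000

universe u

open CategoryTheory CategoryTheory.Limits AlgebraicGeometry Opposite

attribute [local instance] Groth.Agent.S0101.result

noncomputable section

namespace Groth.Agent.CmpLLib

variable {L : Set ℕ} {n : ℕ}

theorem isLTorsion_const_pPow {X : Scheme.{u}} {m : ℕ} (hm : PPow L m) :
    EtAcyc.IsLTorsion L (EtCoh.const X (ZMod m)) :=
  CompBCLib.isLTorsion_of_killedBy hm.primesIn (PBCLib.killedBy_const X m)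

theorem injective_Hpull_zero_of_surjective {X Y : Scheme.{u}} (f : X ⟶ Y) [Surjective f] (F : EtCoh.Ab Y) :
    Function.Injective (EtCore.Hpull f F 0) := by
  haveI := EtPtsLib.mono_unit_of_surjective f F
  have e : ⇑(EtCore.Hpull f F 0) = ⇑(EtLim.HofPush f ((EtCoh.pull f).obj F) 0) ∘
      ⇑(Sheaf.H.map ((EtCoh.pullPushAdj f).unit.app F) 0) :=
    funext fun x => AcycCompLib.Hpull_eq_HofPush_unit f 0 F x
  rw [e]
  exact ((AcycCompLib.bijective_HofPush f _ 0 0 fun q h1 h2 => absurd h1 (by omega)).1 le_rfl).1.comp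
    (CmpCritLib.map_mono_zero _)

theorem surjective_Hpull_of_iso {P P' Z : Scheme.{u}} (w : P ⟶ Z) (w' : P' ⟶ Z) (e : P ⟶ P') [IsIso e]
    (he : e ≫ w' = w) (F : EtCoh.Ab Z) (q : ℕ) (h : Function.Surjective (EtCore.Hpull w' F q)) :
    Function.Surjective (EtCore.Hpull w F q) := by
  haveI := EtLimLib.isIso_comparePull w' e w he F
  have hb := ConcreteCategory.bijective_of_isIso
    ((EtCoh.HF P q).map ((EtLimLib.comparePull w' e w he).app F))
  refine (Function.Surjective.of_comp_iff' hb _).1 ?_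
  rw [AcycCompLib.Hpull_comp w' e w he F q]
  exact (AcycCompLib.bijective_Hpull_of_isIso e _ q).2.comp h

variable {X Y : Scheme.{u}} (g : X ⟶ Y) [QuasiCompact g] [QuasiSeparated g]

theorem isAcyclicN_of_const (hs : Function.Surjective g.base)
    (hc : ∀ (Y' : Scheme.{u}) (i : Y' ⟶ Y) [LocallyQuasiFinite i] [LocallyOfFiniteType i] (ℓ : ℕ), ℓ.Prime → ℓ ∈ L →
      ∀ (ν : ℕ), 1 ≤ ν → ∀ [PreservesFiniteLimits (EtCoh.pull (pullback.snd g i))] (q : ℕ), q ≤ n →
        Function.Surjective (EtCore.Hpull (pullback.snd g i) (EtCoh.const Y' (ZMod (ℓ ^ ν))) q)) :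
    EtAcyc.IsAcyclicN g L n := by
  haveI : Surjective g := ⟨hs⟩
  intro V F hF _
  let f := EtAcyc.prj g V
  refine SmoothBCLib.bijective_Hpull_of_affine f F n fun W hW _ q hq => ?_
  haveI := hW
  haveI : Etale W.hom := W.prop
  haveI : Etale V.hom := V.prop
  let j := W.hom ≫ V.hom
  haveI : Etale j := inferInstanceAs (Etale (W.hom ≫ V.hom))
  haveI : LocallyQuasiFinite j := Groth.Agent.ASp.IsEtLocal.etale_le (P := @LocallyQuasiFinite) _ ‹Etale j›
  have sq : IsPullback (pullback.snd W.hom f ≫ pullback.snd V.hom g) (AcycCompLib.fW f W) g j :=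
    (AcycCompLib.isPullback_fW f W).paste_horiz (IsPullback.of_hasPullback V.hom g).flip
  haveI : QuasiCompact (AcycCompLib.fW f W) := MorphismProperty.of_isPullback sq ‹QuasiCompact g›
  haveI : QuasiSeparated (AcycCompLib.fW f W) := MorphismProperty.of_isPullback sq ‹QuasiSeparated g›
  haveI : Surjective (AcycCompLib.fW f W) := MorphismProperty.of_isPullback sq ‹Surjective g›
  haveI : CompactSpace ↥(pullback W.hom f) := QuasiCompact.compactSpace_of_compactSpace (AcycCompLib.fW f W)
  haveI : QuasiSeparatedSpace ↥(pullback W.hom f) := quasiSeparatedSpace_of_quasiSeparated (AcycCompLib.fW f W)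
  have hb : ∀ (X' : Scheme.{u}) (p : X' ⟶ W.left) [IsFinite p] (m : ℕ), PPow L m →
      Function.Injective (EtCore.Hpull (pullback.fst p (AcycCompLib.fW f W)) (EtCoh.const X' (ZMod m)) 0) ∧
        ∀ k ≤ n, Function.Surjective
          (EtCore.Hpull (pullback.fst p (AcycCompLib.fW f W)) (EtCoh.const X' (ZMod m)) k) := fun X' p _ m hm => by
    obtain ⟨ℓ, ν, hℓ, hℓL, hν, rfl⟩ := hm
    haveI : Surjective (pullback.fst p (AcycCompLib.fW f W)) := MorphismProperty.pullback_fst _ _ inferInstance
    refine ⟨injective_Hpull_zero_of_surjective _ _, fun k hk => ?_⟩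
    have hS := ((IsPullback.of_hasPullback p (AcycCompLib.fW f W)).flip.paste_horiz sq)
    exact surjective_Hpull_of_iso _ (pullback.snd g (p ≫ j)) hS.isoPullback.hom hS.isoPullback_hom_snd _ k
      (hc X' (p ≫ j) ℓ hℓ hℓL ν hν k hk)
  exact (compN_of_const (AcycCompLib.fW f W) hb _ (AcycCompLib.isLTorsion_pull W.hom hF)).1 q hq

theorem surjective_of_isAcyclicN (hL : ∃ ℓ ∈ L, ℓ.Prime) (h : EtAcyc.IsAcyclicN g L n) :
    Function.Surjective g.base := fun y => by
  obtain ⟨⟨z⟩, -, -⟩ := SmoothBCLib.geomFibresAcyclicN_of_isAcyclicN g hL h y (AlgebraicClosure (Y.residueField y))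
  refine ⟨pullback.fst g (EtAcyc.geomPt Y y _) z, ?_⟩
  rw [← Scheme.Hom.comp_apply, pullback.condition, Scheme.Hom.comp_apply]
  show (Y.fromSpecResidueField y) _ = y
  exact Y.fromSpecResidueField_apply y _

theorem surjective_const_of_isAcyclicN (h : EtAcyc.IsAcyclicN g L n) {Y' : Scheme.{u}} (i : Y' ⟶ Y)
    [LocallyQuasiFinite i] [LocallyOfFiniteType i] {m : ℕ} (hm : PPow L m) (q : ℕ) (hq : q ≤ n) :
    Function.Surjective (EtCore.Hpull (pullback.snd g i) (EtCoh.const Y' (ZMod m)) q) := by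
  refine UnitVanish.surjective_Hpull ?_ q hq
  choose U hU hxU _hsub using fun y : Y' =>
    exists_isAffineOpen_mem_and_subset (X := Y) (x := i y) (U := ⊤) trivial
  choose W hW hyW hWU using fun y : Y' =>
    exists_isAffineOpen_mem_and_subset (X := Y') (x := y) (U := i ⁻¹ᵁ U y) (hxU y)
  refine unitVanish_of_openCover W (fun y => ⟨y, hyW y⟩) fun y => ?_
  haveI : IsAffine (U y).toScheme := hU y
  haveI : IsAffine (W y).toScheme := hW y
  let G := (EtCoh.pull (W y).ι).obj (EtCoh.const Y' (ZMod m))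
  have hG : EtAcyc.IsLTorsion L G := AcycCompLib.isLTorsion_pull _ (isLTorsion_const_pPow hm)
  have hr : Set.range ((W y).ι ≫ i) ⊆ Set.range (U y).ι := by
    rw [Scheme.Opens.range_ι]
    rintro _ ⟨w, rfl⟩
    exact hWU y w.2
  let f₀ := IsOpenImmersion.lift (U y).ι ((W y).ι ≫ i) hr
  have hf₀ : f₀ ≫ (U y).ι = (W y).ι ≫ i := IsOpenImmersion.lift_fac _ _ _
  haveI : LocallyOfFiniteType (f₀ ≫ (U y).ι) := by rw [hf₀]; infer_instance
  haveI : LocallyOfFiniteType f₀ := locallyOfFiniteType_of_comp f₀ (U y).ι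
  haveI : LocallyQuasiFinite f₀ := by
    haveI : LocallyQuasiFinite (f₀ ≫ (U y).ι) := by rw [hf₀]; infer_instance
    exact LocallyQuasiFinite.of_comp f₀ (U y).ι
  obtain ⟨T, j, π, hj, hjq, hπ, hjπ⟩ := Groth.Agent.S0385.result f₀
  haveI := hj; haveI := hjq; haveI := hπ
  let E : Y.Etale := Scheme.Etale.mk (U y).ι
  let gU := pullback.fst (U y).ι g
  haveI : QuasiCompact gU := MorphismProperty.pullback_fst _ _ ‹QuasiCompact g›
  haveI : QuasiSeparated gU := MorphismProperty.pullback_fst _ _ ‹QuasiSeparated g›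
  haveI : CompactSpace ↥(pullback (U y).ι g) := QuasiCompact.compactSpace_of_compactSpace gU
  haveI : QuasiSeparatedSpace ↥(pullback (U y).ι g) := quasiSeparatedSpace_of_quasiSeparated gU
  let gT := pullback.fst π gU
  have hT : UnitVanish gT n ((EtCoh.push j).obj G) :=
    unitVanish_finite gU π gT (pullback.snd π gU) (IsPullback.of_hasPullback π gU) _
      ((Groth.Agent.S3510.result g L n).1 h E _ (isLTorsion_push π (isLTorsion_push j hG)))
  have BT : IsPullback (pullback.snd π gU ≫ pullback.snd (U y).ι g) gT g (π ≫ (U y).ι) :=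
    (IsPullback.of_hasPullback π gU).flip.paste_horiz (IsPullback.of_hasPullback (U y).ι g).flip
  let gW := pullback.fst (W y).ι (pullback.snd g i)
  let c₀ := pullback.snd (W y).ι (pullback.snd g i) ≫ pullback.fst g i
  have B₀ : IsPullback c₀ gW g ((W y).ι ≫ i) :=
    (IsPullback.of_hasPullback (W y).ι (pullback.snd g i)).flip.paste_horiz (IsPullback.of_hasPullback g i)
  have hjU : (W y).ι ≫ i = j ≫ π ≫ (U y).ι := by rw [← hf₀, ← hjπ, Category.assoc]
  let k := BT.lift c₀ (gW ≫ j) (by rw [B₀.w, hjU, Category.assoc])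
  have hk : IsPullback k gW gT j := by
    refine IsPullback.of_right ?_ (BT.lift_snd _ _ _) BT
    rw [BT.lift_fst, ← hjU]
    exact B₀
  exact (unitVanish_etale j gW k hk hT).of_iso (nonempty_pull_push j G).some

end Groth.Agent.CmpLLib
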